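import Mathlib.FieldTheory.KummerPolynomial
import Mathlib.FieldTheory.RatFunc.AsPolynomial
import Mathlib.FieldTheory.IntermediateField.Adjoin.Basic
import Mathlib.RingTheory.Valuation.ValuationSubring
import Mathlib.RingTheory.DiscreteValuationRing.Basic
import Mathlib.RingTheory.PowerBasis
import Mathlib.Algebra.CharP.Lemmas
import Mathlib.FieldTheory.Perfect
import Mathlib.Algebra.Field.ZMod
import Mathlib.FieldTheory.Finite.Basic
import Mathlib.Algebra.BigOperators.Field
import Mathlib.RingTheory.Polynomial.Content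
import Mathlib.Algebra.Field.ULift
import Mathlib.RingTheory.PowerSeries.Inverse
import Mathlib.RingTheory.Localization.Integral
import Mathlib.RingTheory.LocalRing.ResidueField.Basic

/-!
# Fields of `p`-rank at most one and their finite extensions

`PRk p k`: there is `t` such that every `s : k` is `∑_{i < p} cᵢ ^ p * t ^ i` (`[k : k ^ p] ≤ p`).
For `F / k` algebraic and `b : F` not a `p`-th power every `s : F` is `∑_{i < p} cᵢ ^ p * b ^ i`.
-/

set_option autoImplicit false

namespace Groth.Agent.Refuted.K775.PRank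

open Finset Polynomial

/-- `[k : k ^ p] ≤ p`. -/
def PRk (p : ℕ) (k : Type*) [Field k] : Prop :=
  ∃ t : k, ∀ s : k, ∃ c : ℕ → k, s = ∑ i ∈ range p, c i ^ p * t ^ i

/-- Transport along a surjective homomorphism. -/
theorem PRk.of_surjective {p : ℕ} {k k' : Type*} [Field k] [Field k'] (h : PRk p k) (g : k →+* k')
    (hg : Function.Surjective g) : PRk p k' := by
  obtain ⟨t, ht⟩ := h
  refine ⟨g t, fun s => ?_⟩
  obtain ⟨s, rfl⟩ := hg s
  obtain ⟨c, hc⟩ := ht s
  exact ⟨fun i => g (c i), by rw [hc]; simp⟩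

section ZMod

variable {p : ℕ} [hp : Fact p.Prime]

/-- Polynomials over the prime field. -/
theorem exists_poly (f : (ZMod p)[X]) : ∃ c : ℕ → (ZMod p)[X], f = ∑ i ∈ range p, c i ^ p * X ^ i := by
  have : CharP (ZMod p)[X] p := inferInstance
  induction f using Polynomial.induction_on' with
  | add f g hf hg =>
    obtain ⟨c, hc⟩ := hf
    obtain ⟨d, hd⟩ := hg
    refine ⟨fun i => c i + d i, ?_⟩
    rw [hc, hd, ← sum_add_distrib]
    exact sum_congr rfl fun i _ => by rw [add_pow_char, add_mul]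
  | monomial n a =>
    refine ⟨fun i => if i = n % p then C a * X ^ (n / p) else 0, ?_⟩
    have h1 : n % p ∈ range p := mem_range.2 (Nat.mod_lt _ hp.out.pos)
    rw [sum_eq_single_of_mem _ h1 (fun i _ hi => by simp only [if_neg hi, zero_pow hp.out.ne_zero, zero_mul])]
    simp only [if_true]
    rw [mul_pow, ← C_pow, ZMod.pow_card, ← pow_mul, mul_assoc, ← pow_add, C_mul_X_pow_eq_monomial,
      show n / p * p + n % p = n from Nat.div_add_mod' n p]

/-- A field generated by one element over the prime field has `p`-rank at most one. -/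
theorem prk_of_adjoin {k : Type*} [Field k] [Algebra (ZMod p) k] (t : k)
    (ht : IntermediateField.adjoin (ZMod p) {t} = ⊤) : PRk p k := by
  have : CharP k p := charP_of_injective_algebraMap (algebraMap (ZMod p) k).injective p
  refine ⟨t, fun s => ?_⟩
  have h1 : s ∈ IntermediateField.adjoin (ZMod p) {t} := by rw [ht]; trivial
  obtain ⟨f, g, rfl⟩ := (IntermediateField.mem_adjoin_simple_iff _ _).1 h1
  by_cases hg : aeval t g = 0
  · exact ⟨fun _ => 0, by simp [hg, hp.out.ne_zero]⟩
  obtain ⟨c, hc⟩ := exists_poly (f * g ^ (p - 1))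
  refine ⟨fun i => aeval t (c i) / aeval t g, ?_⟩
  have h2 : aeval t f / aeval t g = aeval t (f * g ^ (p - 1)) / aeval t g ^ p := by
    rw [map_mul, map_pow, div_eq_div_iff hg (pow_ne_zero _ hg), mul_assoc, ← pow_succ,
      Nat.sub_add_cancel hp.out.one_le]
  rw [h2, hc, map_sum, sum_div]
  refine sum_congr rfl fun i _ => ?_
  simp only [map_mul, map_pow, aeval_X, div_pow]
  ring

/-- `F_p(t)`. -/
theorem prk_ratFunc : PRk p (RatFunc (ZMod p)) := by
  refine prk_of_adjoin (RatFunc.X : RatFunc (ZMod p)) ?_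
  rw [eq_top_iff]
  rintro s -
  rw [IntermediateField.mem_adjoin_simple_iff]
  refine ⟨s.num, s.denom, ?_⟩
  rw [RatFunc.aeval_X_left_eq_algebraMap, RatFunc.aeval_X_left_eq_algebraMap, RatFunc.num_div_denom]

end ZMod

/-- The degree count. -/
theorem finrank_le {k₁ k₂ F₁ F₂ : Type*} [Field k₁] [Field k₂] [Field F₁] [Field F₂] [Algebra k₁ k₂] [Algebra k₁ F₁]
    [Algebra k₂ F₂] [Algebra F₁ F₂] [Algebra k₁ F₂] [IsScalarTower k₁ k₂ F₂] [IsScalarTower k₁ F₁ F₂]
    [FiniteDimensional k₁ F₁] [FiniteDimensional k₂ F₂] [FiniteDimensional k₁ k₂]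
    (h : Module.finrank k₁ F₁ = Module.finrank k₂ F₂) {m : ℕ} (hm : Module.finrank k₁ k₂ ≤ m) :
    FiniteDimensional F₁ F₂ ∧ Module.finrank F₁ F₂ ≤ m := by
  have h1 : FiniteDimensional k₁ F₂ := FiniteDimensional.trans k₁ k₂ F₂
  have h2 : FiniteDimensional F₁ F₂ := FiniteDimensional.right k₁ F₁ F₂
  refine ⟨h2, ?_⟩
  have h3 := Module.finrank_mul_finrank k₁ k₂ F₂
  have h4 := Module.finrank_mul_finrank k₁ F₁ F₂
  rw [← h3, h, mul_comm (Module.finrank k₁ k₂)] at h4
  have h5 : 0 < Module.finrank k₂ F₂ := Module.finrank_pos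
  rw [Nat.eq_of_mul_eq_mul_left h5 h4]
  exact hm

/-- A spanning family of length `p`. -/
theorem finrank_le_of_sum {k₁ k₂ : Type*} [Field k₁] [Field k₂] [Algebra k₁ k₂] {p : ℕ} (t : k₂)
    (ht : ∀ s : k₂, ∃ c : ℕ → k₁, s = ∑ i ∈ range p, algebraMap k₁ k₂ (c i) * t ^ i) :
    FiniteDimensional k₁ k₂ ∧ Module.finrank k₁ k₂ ≤ p := by
  have h : Submodule.span k₁ (Set.range fun i : Fin p => t ^ (i : ℕ)) = ⊤ := by
    rw [eq_top_iff]
    rintro s -
    obtain ⟨c, rfl⟩ := ht s
    refine Submodule.sum_mem _ fun i hi => ?_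
    rw [← Algebra.smul_def]
    exact Submodule.smul_mem _ _ (Submodule.subset_span ⟨⟨i, mem_range.1 hi⟩, rfl⟩)
  have hfin : FiniteDimensional k₁ k₂ := ⟨h ▸ Submodule.fg_span (Set.finite_range _)⟩
  refine ⟨hfin, ?_⟩
  have h2 := finrank_range_le_card (R := k₁) (fun i : Fin p => t ^ (i : ℕ))
  rw [Set.finrank, h, finrank_top, Fintype.card_fin] at h2
  exact h2

/-- Spanning by the powers of an element which is not a `p`-th power. -/
theorem exists_sum_of_finrank_le {F₁ F₂ : Type*} [Field F₁] [Field F₂] [Algebra F₁ F₂] [FiniteDimensional F₁ F₂]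
    {p : ℕ} (hp : p.Prime) (hF : Module.finrank F₁ F₂ ≤ p) (b : F₂) (a : F₁) (ha : b ^ p = algebraMap F₁ F₂ a)
    (hb : ∀ c : F₁, c ^ p ≠ a) (s : F₂) : ∃ c : ℕ → F₁, s = ∑ i ∈ range p, algebraMap F₁ F₂ (c i) * b ^ i := by
  have hirr := X_pow_sub_C_irreducible_of_prime hp hb
  have hmin : X ^ p - C a = minpoly F₁ b :=
    minpoly.eq_of_irreducible_of_monic hirr (by simp [ha]) (monic_X_pow_sub_C a hp.ne_zero)
  have hdeg : (minpoly F₁ b).natDegree = p := by rw [← hmin, natDegree_X_pow_sub_C]
  have hli : LinearIndependent F₁ fun i : Fin p => b ^ (i : ℕ) := by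
    have := linearIndependent_pow (K := F₁) b
    rw [hdeg] at this
    exact this
  have hcard : Fintype.card (Fin p) = Module.finrank F₁ F₂ := by
    rw [Fintype.card_fin]
    refine le_antisymm ?_ hF
    have := hli.fintype_card_le_finrank
    rwa [Fintype.card_fin] at this
  have hspan := hli.span_eq_top_of_card_eq_finrank' hcard
  have hs : s ∈ Submodule.span F₁ (Set.range fun i : Fin p => b ^ (i : ℕ)) := by rw [hspan]; trivial
  obtain ⟨c, hc⟩ := (Submodule.mem_span_range_iff_exists_fun _).1 hs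
  refine ⟨fun i => if h : i < p then c ⟨i, h⟩ else 0, ?_⟩
  rw [← hc, ← Fin.sum_univ_eq_sum_range (fun i => algebraMap F₁ F₂ (if h : i < p then c ⟨i, h⟩ else 0) * b ^ i)]
  refine sum_congr rfl fun i _ => ?_
  rw [dif_pos i.2, Algebra.smul_def]

/-- The abstract form, for a square of fields. -/
theorem exists_sum_square {k₁ k₂ F₁ F₂ : Type*} [Field k₁] [Field k₂] [Field F₁] [Field F₂] [Algebra k₁ k₂]
    [Algebra k₁ F₁] [Algebra k₂ F₂] [Algebra F₁ F₂] [Algebra k₁ F₂] [IsScalarTower k₁ k₂ F₂] [IsScalarTower k₁ F₁ F₂]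
    [FiniteDimensional k₁ F₁] [FiniteDimensional k₂ F₂] (h : Module.finrank k₁ F₁ = Module.finrank k₂ F₂)
    {p : ℕ} (hp : p.Prime) (t : k₂)
    (ht : ∀ s : k₂, ∃ c : ℕ → k₁, s = ∑ i ∈ range p, algebraMap k₁ k₂ (c i) * t ^ i)
    (b : F₂) (a : F₁) (ha : b ^ p = algebraMap F₁ F₂ a) (hb : ∀ c : F₁, c ^ p ≠ a) (s : F₂) :
    ∃ c : ℕ → F₁, s = ∑ i ∈ range p, algebraMap F₁ F₂ (c i) * b ^ i := by
  obtain ⟨_, h1⟩ := finrank_le_of_sum t ht
  obtain ⟨_, h2⟩ := finrank_le h h1
  exact exists_sum_of_finrank_le hp h2 b a ha hb s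

/-- **Finite extensions keep the `p`-rank.** -/
theorem exists_sum_of_finite {p : ℕ} (hp : p.Prime) {k F : Type*} [Field k] [Field F] [Algebra k F]
    [FiniteDimensional k F] [CharP F p] (hk : PRk p k) (b : F) (hb : ∀ c : F, c ^ p ≠ b) (s : F) :
    ∃ c : ℕ → F, s = ∑ i ∈ range p, c i ^ p * b ^ i := by
  have hpF : Fact p.Prime := ⟨hp⟩
  have : CharP k p := (algebraMap k F).charP (algebraMap k F).injective p
  obtain ⟨t, ht⟩ := hk
  let A12 : Algebra k k := (frobenius k p).toAlgebra
  let AF : Algebra F F := (frobenius F p).toAlgebra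
  let A1F : Algebra k F := inferInstance
  let AkF : Algebra k F := ((frobenius F p).comp (algebraMap k F)).toAlgebra
  refine @exists_sum_square k k F F _ _ _ _ A12 A1F A1F AF AkF ?_ ?_ inferInstance inferInstance rfl p hp t ht
    b b rfl hb s
  · refine @IsScalarTower.of_algebraMap_eq k k F _ _ _ A12 A1F AkF fun x => ?_
    change frobenius F p (@algebraMap k F _ _ A1F x) = @algebraMap k F _ _ A1F (frobenius k p x)
    rw [frobenius_def, frobenius_def, map_pow]
  · exact @IsScalarTower.of_algebraMap_eq k F F _ _ _ A1F AF AkF fun x => rfl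

/-- The same for algebraic extensions. -/
theorem exists_sum_of_algebraic {p : ℕ} (hp : p.Prime) {k F : Type*} [Field k] [Field F] [Algebra k F]
    [Algebra.IsAlgebraic k F] [CharP F p] (hk : PRk p k) (b : F) (hb : ∀ c : F, c ^ p ≠ b) (s : F) :
    ∃ c : ℕ → F, s = ∑ i ∈ range p, c i ^ p * b ^ i := by
  let E : IntermediateField k F := IntermediateField.adjoin k {b, s}
  have hE : FiniteDimensional k E := by
    refine IntermediateField.finiteDimensional_adjoin fun x _ => ?_
    exact (Algebra.IsAlgebraic.isAlgebraic x).isIntegral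
  have hbE : b ∈ E := IntermediateField.subset_adjoin k _ (by simp)
  have hsE : s ∈ E := IntermediateField.subset_adjoin k _ (by simp)
  have : CharP E p := E.val.toRingHom.charP E.val.injective p
  obtain ⟨c, hc⟩ := exists_sum_of_finite hp (k := k) (F := E) hk ⟨b, hbE⟩
    (fun c hc => hb c (by simpa using congrArg Subtype.val hc)) ⟨s, hsE⟩
  refine ⟨fun i => c i, ?_⟩
  have := congrArg Subtype.val hc
  simpa using this

section Residue

open IsLocalRing

/-- `ULift`. -/
theorem PRk.uLift {p : ℕ} {k : Type*} [Field k] (h : PRk p k) : PRk p (ULift k) :=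
  h.of_surjective (ULift.ringEquiv.symm : k ≃+* ULift k).toRingHom
    (fun y => (ULift.ringEquiv.symm : k ≃+* ULift k).surjective y)

/-- The residue field of a local ring with a surjection onto the residue field. -/
theorem PRk.residue {p : ℕ} {k : Type*} [Field k] (h : PRk p k) {A : Type*} [CommRing A] [IsLocalRing A] (g : k →+* A)
    (hg : ∀ a : A, ∃ c : k, a - g c ∈ maximalIdeal A) : PRk p (ResidueField A) := by
  refine h.of_surjective ((IsLocalRing.residue A).comp g) fun y => ?_
  obtain ⟨a, rfl⟩ := residue_surjective y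
  obtain ⟨c, hc⟩ := hg a
  refine ⟨c, ?_⟩
  rw [← residue_eq_zero_iff, map_sub, sub_eq_zero] at hc
  exact hc.symm

/-- The residue field of a power series ring. -/
theorem PRk.powerSeries {p : ℕ} {k : Type*} [Field k] (h : PRk p k) : PRk p (ResidueField (PowerSeries k)) := by
  refine h.residue (PowerSeries.C (R := k)) fun a => ⟨PowerSeries.constantCoeff a, ?_⟩
  rw [mem_maximalIdeal, mem_nonunits_iff, PowerSeries.isUnit_iff_constantCoeff]
  simp

/-- Residues of algebraic elements are algebraic. -/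
theorem isAlgebraic_residue {A B : Type*} [CommRing A] [IsDomain A] [IsDiscreteValuationRing A] [CommRing B]
    [IsDomain B] [IsLocalRing B] (f : A →+* B) (hf : Function.Injective f) [IsLocalHom f] (x : B) {g : A[X]}
    (hg0 : g ≠ 0) (hg : g.eval₂ f x = 0) :
    ∃ h : (ResidueField A)[X], h ≠ 0 ∧ h.eval₂ (ResidueField.map f) (residue B x) = 0 := by
  let _ : NormalizedGCDMonoid A := Classical.choice inferInstance
  obtain ⟨ϖ, hϖ⟩ := IsDiscreteValuationRing.exists_irreducible A
  refine ⟨g.primPart.map (residue A), fun h0 => ?_, ?_⟩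
  · have h1 : C ϖ ∣ g.primPart := by
      rw [C_dvd_iff_dvd_coeff]
      intro i
      have h2 : residue A (g.primPart.coeff i) = 0 := by
        rw [← coeff_map, h0, coeff_zero]
      rwa [residue_eq_zero_iff, hϖ.maximalIdeal_eq, Ideal.mem_span_singleton] at h2
    exact hϖ.not_isUnit (isPrimitive_iff_isUnit_of_C_dvd.1 g.isPrimitive_primPart _ h1)
  · have h1 : g.primPart.eval₂ f x = 0 := by
      have h2 := hg
      rw [g.eq_C_content_mul_primPart, eval₂_mul, eval₂_C, mul_eq_zero] at h2
      refine h2.resolve_left fun h3 => hg0 ?_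
      rw [← content_eq_zero_iff]
      exact hf (by rw [h3, map_zero])
    rw [eval₂_map]
    have h2 : (ResidueField.map f).comp (residue A) = (residue B).comp f := ResidueField.map_comp_residue f
    rw [h2, ← hom_eval₂, h1, map_zero]

end Residue

section Valued

variable {A K Ω : Type*} [CommRing A] [IsDomain A] [IsDiscreteValuationRing A] [Field K] [Algebra A K]
  [IsFractionRing A K] [Field Ω] [Algebra K Ω] {p : ℕ} [hp : Fact p.Prime] [CharP Ω p]

open IsLocalRing

/-- **`hprk` of `K728.Descent.main`.** -/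
theorem hprk (V : ValuationSubring Ω) (hA : ∀ a : A, algebraMap K Ω (algebraMap A K a) ∈ V)
    (hm : ∀ a ∈ maximalIdeal A, V.valuation (algebraMap K Ω (algebraMap A K a)) < 1)
    (hk : PRk p (ResidueField A)) (E : IntermediateField K Ω) [Algebra.IsAlgebraic K E] :
    ∀ b ∈ E, ∀ s ∈ E, V.valuation b ≤ 1 → V.valuation s ≤ 1 →
      (∀ c ∈ E, V.valuation c ≤ 1 → ¬ V.valuation (b - c ^ p) < 1) →
      ∃ c : ℕ → Ω, (∀ i, c i ∈ E) ∧ V.valuation (s - ∑ i ∈ Finset.range p, c i ^ p * b ^ i) < 1 := by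
  intro b hb s hs hbv hsv hbp
  set v := V.valuation with hv
  -- the valuation ring of `E`
  let B : ValuationSubring E := V.comap (algebraMap E Ω)
  have hBmem : ∀ x : E, x ∈ B ↔ v (x : Ω) ≤ 1 := fun x => (V.valuation_le_one_iff _).symm
  have hBlt : ∀ x : B, x ∈ maximalIdeal B ↔ v ((x : E) : Ω) < 1 := by
    intro x
    rw [mem_maximalIdeal, mem_nonunits_iff]
    constructor
    · intro hx
      have h1 : v ((x : E) : Ω) ≤ 1 := (hBmem _).1 x.2
      refine lt_of_le_of_ne h1 fun h2 => hx ?_
      have h0 : (x : E) ≠ 0 := by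
        intro h0
        rw [h0] at h2
        simp at h2
      have h3 : (x : E)⁻¹ ∈ B := by
        rw [hBmem]
        push_cast
        rw [map_inv₀, h2, inv_one]
      exact IsUnit.of_mul_eq_one ⟨_, h3⟩ (Subtype.ext (mul_inv_cancel₀ h0))
    · rintro h1 ⟨u, rfl⟩
      have h2 : (((u : B) : E) : Ω) * ((((u⁻¹ : Bˣ) : B) : E) : Ω) = 1 := by
        exact congrArg (fun z : B => ((z : E) : Ω)) u.mul_inv
      have h3 : v ((((u⁻¹ : Bˣ) : B) : E) : Ω) ≤ 1 := (hBmem _).1 ((u⁻¹ : Bˣ) : B).2
      have h4 : v (((u : B) : E) : Ω) * v ((((u⁻¹ : Bˣ) : B) : E) : Ω) < 1 := mul_lt_one_of_lt_of_le h1 h3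
      rw [← map_mul, h2, map_one] at h4
      exact lt_irrefl _ h4
  -- the local homomorphism `A → B`
  let f : A →+* B := ((algebraMap K E).comp (algebraMap A K)).codRestrict B.toSubring (fun a => by
    change _ ∈ V.comap (algebraMap E Ω)
    exact hA a)
  have hfE : ∀ a, ((f a : B) : E) = algebraMap K E (algebraMap A K a) := fun a => rfl
  have hfΩ : ∀ a, (((f a : B) : E) : Ω) = algebraMap K Ω (algebraMap A K a) := fun a => rfl
  have hfinj : Function.Injective f := by
    intro x y hxy
    have h1 : algebraMap K E (algebraMap A K x) = algebraMap K E (algebraMap A K y) := by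
      rw [← hfE, ← hfE, hxy]
    exact IsFractionRing.injective A K ((algebraMap K E).injective h1)
  have hfloc : IsLocalHom f := by
    refine ⟨fun a ha => ?_⟩
    by_contra h
    have h1 : f a ∈ maximalIdeal B := by
      rw [hBlt, hfΩ]
      exact hm a ((mem_maximalIdeal _).2 h)
    exact (mem_maximalIdeal _).1 h1 ha
  -- the extension of residue fields
  let _ : Algebra (ResidueField A) (ResidueField B) := (ResidueField.map f).toAlgebra
  have halg : Algebra.IsAlgebraic (ResidueField A) (ResidueField B) := by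
    refine ⟨fun y => ?_⟩
    obtain ⟨x, rfl⟩ := residue_surjective y
    have h1 : IsAlgebraic K (x : E) := Algebra.IsAlgebraic.isAlgebraic _
    let _ : Algebra A E := ((algebraMap K E).comp (algebraMap A K)).toAlgebra
    have : IsScalarTower A K E := IsScalarTower.of_algebraMap_eq fun _ => rfl
    obtain ⟨g, hg0, hg⟩ := (IsFractionRing.isAlgebraic_iff A K E).2 h1
    have hg' : g.eval₂ f x = 0 := by
      refine Subtype.ext ?_
      have h2 : ((g.eval₂ f x : B) : E) = g.eval₂ (algebraMap A E) (x : E) := by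
        have := hom_eval₂ g f B.subtype x
        exact this
      rw [h2]
      exact hg
    obtain ⟨h, h0, h1⟩ := isAlgebraic_residue f hfinj x hg0 hg'
    exact ⟨h, h0, h1⟩
  have hchar : CharP (ResidueField B) p := by
    rw [CharP.charP_iff_prime_eq_zero hp.out]
    have h2 : (p : B) = 0 := Subtype.ext (by simp)
    have := congrArg (residue B) h2
    simpa using this
  -- the elements
  let b' : B := ⟨⟨b, hb⟩, (hBmem _).2 hbv⟩
  let s' : B := ⟨⟨s, hs⟩, (hBmem _).2 hsv⟩
  obtain ⟨c, hc⟩ := exists_sum_of_algebraic hp.out hk (residue B b') (fun c hc => by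
    obtain ⟨c, rfl⟩ := residue_surjective c
    refine hbp (c : E) (c : E).2 ((hBmem _).1 c.2) ?_
    have h1 : b' - c ^ p ∈ maximalIdeal B := by
      rw [← residue_eq_zero_iff, map_sub, map_pow, hc, sub_self]
    exact (hBlt _).1 h1) (residue B s')
  choose c' hc' using fun i => residue_surjective (c i)
  refine ⟨fun i => ((c' i : B) : E), fun i => ((c' i : B) : E).2, ?_⟩
  have h1 : s' - ∑ i ∈ range p, c' i ^ p * b' ^ i ∈ maximalIdeal B := by
    rw [← residue_eq_zero_iff, map_sub, hc, sub_eq_zero, map_sum]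
    exact (sum_congr rfl fun i _ => by rw [map_mul, map_pow, map_pow, hc']).symm
  have h2 := (hBlt _).1 h1
  simpa using h2

end Valued

end Groth.Agent.Refuted.K775.PRank
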